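import Cfsg.Agent.Lib.Lead.CoxOut.Fi22Chk
import Cfsg.Agent.Lib.Helper6.Fi22Simple
import Cfsg.Agent.Lib.Helper6.OutGeneric

/-!
# The outer automorphism group of the Fischer group Fi₂₂ has order two

The presented group acts faithfully on the 3510 rows of the coset table; the symmetry of the graph of the presentation
gives an automorphism that maps an element `x` of order 13 to an element that is not conjugate to `x`.
-/

set_option autoImplicit false
set_option maxRecDepth 100000
set_option linter.constructorNameAsVariable false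

namespace Cfsg.Agent.CoxOut.Fi22

open Cfsg Cfsg.Spor Cfsg.Agent.PL Cfsg.Agent.PL.Cox Cfsg.Agent.Lib.Helper6 Cfsg.Agent.Lib.Helper6.TC

theorem n_le : Fi22TC.data.T.n ≤ 4096 := by
  show 3510 ≤ 4096
  norm_num

theorem ρ_ne_one : Fi22TC.data.cert.ρ (Simp.wordG Fi22TC.data [0]) ≠ 1 := by
  intro h1
  have h2 := SimpWPC.ρ_wordG_apply Fi22TC.data (w := [0]) (by show ∀ x ∈ [0], x < 9; decide) 1
    (by show 1 < 3510; norm_num)
  rw [h1] at h2
  have h3 : Fi22TC.tab.trace 1 [0] ≠ 1 := by decide +kernel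
  exact h3 h2.symm

/-- the action on the rows is faithful -/
theorem ρ_inj : Function.Injective Fi22TC.data.cert.ρ := by
  have : IsSimpleGroup Fi22 := Fi22Simple.main.1
  exact T3Gen.injective_of_simple _ ρ_ne_one

/-- the permutation group on the rows -/
noncomputable abbrev P : Subgroup (Equiv.Perm (Fin Fi22TC.data.T.n)) := Cox.P Fi22TC.data

theorem card_P : Nat.card ↥P = 64561751654400 := Cox.card_P Fi22TC.data ρ_inj Fi22Simple.main.2

theorem regs_ok : RegsOK P (regs Fi22TC.data gl) cgs := Cox.regs_ok Fi22TC.data n_le gl cgs chk_cols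

theorem regs_ok' : RegsOK P (regs Fi22TC.data (gl.map swI)) cgs' :=
  Cox.regs_ok Fi22TC.data n_le (gl.map swI) cgs' chk_cols'

/-- the element `x` -/
noncomputable def xP : ↥P := outP progXYW (regs Fi22TC.data gl) ix
/-- the element `y` -/
noncomputable def yP : ↥P := outP progXYW (regs Fi22TC.data gl) iy
/-- the element `w` -/
noncomputable def wP : ↥P := outP progXYW (regs Fi22TC.data gl) iw

theorem enc_xP : enc Fi22TC.data.T.n xP.1 = cx := (enc_outP n_le regs_ok progXYW ix).trans (out_three chk_xyw).1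
theorem enc_yP : enc Fi22TC.data.T.n yP.1 = cy := (enc_outP n_le regs_ok progXYW iy).trans (out_three chk_xyw).2.1
theorem enc_wP : enc Fi22TC.data.T.n wP.1 = cw := (enc_outP n_le regs_ok progXYW iw).trans (out_three chk_xyw).2.2

theorem hR : ∀ k < 13, k ≠ 0 → ∃ j : ℕ, ∃ r ∈ ({1, 2} : Finset ℕ), (k * 10 ^ j) % 13 = r % 13 := by
  have h : ∀ k < 13, k ≠ 0 → ∃ j < 6, ∃ r ∈ ({1, 2} : Finset ℕ), (k * 10 ^ j) % 13 = r % 13 := by decide
  intro k hk hk0
  obtain ⟨j, -, r, hr, e⟩ := h k hk hk0
  exact ⟨j, r, hr, e⟩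

theorem hsolve : ∀ i < 13, ∃ a : ℕ, (a + 10 * i) % 13 = (10 * a) % 13 := by
  have h : ∀ i < 13, ∃ a < 13, (a + 10 * i) % 13 = (10 * a) % 13 := by decide
  intro i hi
  obtain ⟨a, -, e⟩ := h i hi
  exact ⟨a, e⟩

theorem hA : ∀ c ∈ codesA, ∃ g ∈ Subgroup.closure {xP.1, yP.1, wP.1}, enc Fi22TC.data.T.n g = c :=
  codes_of_run n_le (Subgroup.closure {xP.1, yP.1, wP.1}) (Subgroup.subset_closure (by simp))
    (Subgroup.subset_closure (by simp)) (Subgroup.subset_closure (by simp)) enc_xP enc_yP enc_wP progSGA idxSGA sgAList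
    chk_sgA

theorem hB : ∀ c ∈ codesB, ∃ g ∈ P, enc Fi22TC.data.T.n g = c :=
  codes_of_run n_le P xP.2 yP.2 wP.2 enc_xP enc_yP enc_wP progSGB idxSGB sgBList chk_sgB

/-- the certificate -/
noncomputable def setup : OutSetup Fi22TC.data.T.n P where
  hn := n_le
  N := 64561751654400
  hN := card_P
  fuel := 11
  p := 13
  hp := by norm_num
  hp2 := by norm_num
  m := 10
  s := 5
  r₁ := 2
  hR := hR
  hsolve := hsolve
  x := xP.1
  y := yP.1
  w := wP.1
  hx := xP.2
  hy := yP.2
  hw := wP.2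
  cx := cx
  cy := cy
  cw := cw
  cv := cv
  ex := enc_xP
  ey := enc_yP
  ew := enc_wP
  chk_cv := chk_cv
  q₀ := 0
  chk_x := chk_x
  chk_x1 := chk_x1
  chk_yx := chk_yx
  chk_wy := chk_wy
  codesA := codesA
  hA := hA
  LA := LA
  LsA := LsA
  chk_gensA := chk_gensA
  chk_treeA := chk_treeA
  chk_countsA := chk_countsA
  chk_cycA := chk_cycA
  tests := tests
  chk_centX := chk_centX
  codesB := codesB
  hB := hB
  LB := LB
  LsB := LsB
  chk_gensB := chk_gensB
  chk_treeB := chk_treeB
  chk_countsB := chk_countsB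
  chk_cycB := chk_cycB
  kills := kills
  chk_rels := chk_rels
  testsB := testsB
  chk_kill := chk_kill

/-- the symmetry of the graph -/
def sw : Fi22.Gen → Fi22.Gen
  | .a => .g
  | .b => .f
  | .c => .e
  | .d => .d
  | .e => .c
  | .f => .b
  | .g => .a
  | .h => .h
  | .i => .i

theorem hswI : ∀ x < Fi22TC.data.T.g, Fi22TC.data.gen (swI x) = sw (Fi22TC.data.gen x) := by
  intro x hx
  have hx' : x < 9 := hx
  interval_cases x <;> rfl

theorem gl_lt : ∀ x ∈ gl, x < Fi22TC.data.T.g := by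
  intro x hx
  show x < 9
  simp only [gl, List.mem_cons, List.not_mem_nil, or_false] at hx
  omega

/-- the outer automorphism group of the permutation group has order two -/
theorem card_out_P : Nat.card (Cfsg.Out ↥P) = 2 := by
  obtain ⟨σ, hσ⟩ := exists_aut_P Fi22TC.data ρ_inj sw (by intro a; cases a <;> rfl)
    (fun a _ => Fi22TC.data.hnode _) (by intro a _ b _; cases a <;> cases b <;> rfl) swI hswI chk_sym
  refine setup.card_out_two σ _ rfl cx' ?_ chk_nonconj
  have h1 : σ setup.xP = outP progXYW (regs Fi22TC.data (gl.map swI)) ix :=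
    map_out Fi22TC.data σ swI hσ gl gl_lt progXYW ix
  rw [h1, enc_outP n_le regs_ok' progXYW ix]
  exact chk_sx

/-- **The outer automorphism group of the Fischer group Fi₂₂ has order two.** -/
theorem card_out : Nat.card (Cfsg.Out Fi22) = 2 := by
  rw [OutGeneric.card_out_congr (iso Fi22TC.data ρ_inj)]
  exact card_out_P

end Cfsg.Agent.CoxOut.Fi22
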