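import Cfsg.Agent.Lib.Lead.CoxOut.Fi22Data
import Cfsg.Agent.Lib.Lead.PL.CoxBridge
import Cfsg.Agent.Lib.Helper6.Fi22TC

/-! # The outer automorphism group of the Fischer group Fi₂₂: kernel checks, part 2 -/

set_option autoImplicit false
set_option maxRecDepth 100000

namespace Cfsg.Agent.CoxOut.Fi22

open Cfsg.Agent.PL Cfsg.Agent.PL.Cox Cfsg.Agent.Lib.Helper6
open Cfsg.Agent.PG (allB)

theorem chk_sym : symOK Fi22TC.tab swI Fi22TC.extraWords = true := by decide +kernel

end Cfsg.Agent.CoxOut.Fi22
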