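import Cfsg.Agent.Lib.Lead.CoxOut.Fi22Data
import Cfsg.Agent.Lib.Lead.PL.CoxBridge
import Cfsg.Agent.Lib.Helper6.Fi22TC

/-! # The outer automorphism group of the Fischer group Fi₂₂: kernel checks, part 3 -/

set_option autoImplicit false
set_option maxRecDepth 100000

namespace Cfsg.Agent.CoxOut.Fi22

open Cfsg.Agent.PL Cfsg.Agent.PL.Cox Cfsg.Agent.Lib.Helper6
open Cfsg.Agent.PG (allB)

theorem chk_sgA : runK 3510 progSGA [cw, cy, cx] (fun r => idxSGA.map fun i => r.getD i (pone 3510)) = sgAList := by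
  decide +kernel

theorem chk_sgB : runK 3510 progSGB [cw, cy, cx] (fun r => idxSGB.map fun i => r.getD i (pone 3510)) = sgBList := by
  decide +kernel

end Cfsg.Agent.CoxOut.Fi22
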