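import Cfsg.Agent.Lib.Lead.CoxOut.Fi22Data
import Cfsg.Agent.Lib.Lead.PL.CoxBridge
import Cfsg.Agent.Lib.Helper6.Fi22TC

/-! # The outer automorphism group of the Fischer group Fi₂₂: kernel checks, part 6 -/

set_option autoImplicit false
set_option maxRecDepth 100000

namespace Cfsg.Agent.CoxOut.Fi22

open Cfsg.Agent.PL Cfsg.Agent.PL.Cox Cfsg.Agent.Lib.Helper6
open Cfsg.Agent.PG (allB)

theorem chk_rels : relsOK 3510 (lk cx) (lk cy) (lk cv) kills = true := by decide +kernel

theorem chk_kill : killOK 3510 11 cx cy cv LB.1 testsB (LB :: LsB) kills = true := by decide +kernel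

end Cfsg.Agent.CoxOut.Fi22
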