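import Cfsg.Agent.Lib.Lead.CoxOut.Fi22Chk1
import Cfsg.Agent.Lib.Lead.CoxOut.Fi22Chk2
import Cfsg.Agent.Lib.Lead.CoxOut.Fi22Chk3
import Cfsg.Agent.Lib.Lead.CoxOut.Fi22Chk4
import Cfsg.Agent.Lib.Lead.CoxOut.Fi22Chk5
import Cfsg.Agent.Lib.Lead.CoxOut.Fi22Chk6

/-! # The outer automorphism group of the Fischer group Fi₂₂: all kernel checks -/
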