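import Cfsg.Agent.Lib.Lead.CoxOut.Fi22Data
import Cfsg.Agent.Lib.Lead.PL.CoxBridge
import Cfsg.Agent.Lib.Helper6.Fi22TC

/-! # The outer automorphism group of the Fischer group Fi₂₂: kernel checks, part 1 -/

set_option autoImplicit false
set_option maxRecDepth 100000

namespace Cfsg.Agent.CoxOut.Fi22

open Cfsg.Agent.PL Cfsg.Agent.PL.Cox Cfsg.Agent.Lib.Helper6
open Cfsg.Agent.PG (allB)

theorem chk_cols : colsOK Fi22TC.tab gl cgs = true := by decide +kernel

theorem chk_cols' : colsOK Fi22TC.tab (gl.map swI) cgs' = true := by decide +kernel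

theorem chk_xyw : runK 3510 progXYW cgs (fun r => [ix, iy, iw].map fun t => r.getD t (pone 3510)) = [cx, cy, cw] := by
  decide +kernel

theorem chk_sx : (run 3510 progXYW cgs').getD ix (pone 3510) = cx' := by decide +kernel

end Cfsg.Agent.CoxOut.Fi22
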