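import Cfsg.Agent.Lib.Lead.CoxOut.HeData
import Cfsg.Agent.Lib.Lead.PL.CoxBridge
import Cfsg.Agent.Lib.Helper6.HeTC

/-! # The outer automorphism group of the Held group: kernel checks, part 4 -/

set_option autoImplicit false
set_option maxRecDepth 100000

namespace Cfsg.Agent.CoxOut.He

open Cfsg.Agent.PL Cfsg.Agent.PL.Cox Cfsg.Agent.Lib.Helper6
open Cfsg.Agent.PG (allB)

theorem chk_cv : pinv 2058 cw = cv := by decide +kernel

theorem chk_x : (allB 2058 fun q => Nat.beq ((lk cx)^[17] q) q) = true := by decide +kernel

theorem chk_x1 : (Nat.blt 0 2058 && !Nat.beq (lk cx 0) 0) = true := by decide +kernel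

theorem chk_yx : (allB 2058 fun q => Nat.beq (lk cy (lk cx q)) ((lk cx)^[9] (lk cy q))) = true := by decide +kernel

theorem chk_wy : (allB 2058 fun q => Nat.beq (lk cw (lk cy q)) ((lk cy)^[3] (lk cw q))) = true := by decide +kernel

theorem chk_gensA : ((LA :: LsA).all fun L => L.2.1.all fun c => codesA.contains c) = true := by decide +kernel

theorem chk_gensB : ((LB :: LsB).all fun L => L.2.1.all fun c => codesB.contains c) = true := by decide +kernel

theorem chk_treeA : treeOK 2058 [] (LA :: LsA) = true := by decide +kernel

theorem chk_treeB : treeOK 2058 [] (LB :: LsB) = true := by decide +kernel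

theorem chk_countsA : (treeCounts 2058 12 (LA :: LsA)).prod = 4030387200 := by decide +kernel

theorem chk_countsB : (treeCounts 2058 12 (LB :: LsB)).prod = 4030387200 := by decide +kernel

theorem chk_cycA : baseCycle cx (LA :: LsA) = true := by decide +kernel

theorem chk_cycB : baseCycle cy (LB :: LsB) = true := by decide +kernel

end Cfsg.Agent.CoxOut.He
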