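import Cfsg.Agent.Lib.Lead.CoxOut.HeData
import Cfsg.Agent.Lib.Lead.PL.CoxBridge
import Cfsg.Agent.Lib.Helper6.HeTC

/-! # The outer automorphism group of the Held group: kernel checks, part 5 -/

set_option autoImplicit false
set_option maxRecDepth 100000

namespace Cfsg.Agent.CoxOut.He

open Cfsg.Agent.PL Cfsg.Agent.PL.Cox Cfsg.Agent.Lib.Helper6
open Cfsg.Agent.PG (allB)

theorem chk_centX : (conjList 2058 12 cx cx tests (LA :: LsA)).length = 17 := by decide +kernel

theorem chk_nonconj : conjList 2058 12 cx cx' tests (LA :: LsA) = [] := by decide +kernel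

end Cfsg.Agent.CoxOut.He
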