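import Cfsg.Agent.Lib.Lead.CoxOut.HeData
import Cfsg.Agent.Lib.Lead.PL.CoxBridge
import Cfsg.Agent.Lib.Helper6.HeTC

/-! # The outer automorphism group of the Held group: kernel checks, part 6 -/

set_option autoImplicit false
set_option maxRecDepth 100000

namespace Cfsg.Agent.CoxOut.He

open Cfsg.Agent.PL Cfsg.Agent.PL.Cox Cfsg.Agent.Lib.Helper6
open Cfsg.Agent.PG (allB)

theorem chk_rels : relsOK 2058 (lk cx) (lk cy) (lk cv) kills = true := by decide +kernel

theorem chk_kill : killOK 2058 12 cx cy cv LB.1 testsB (LB :: LsB) kills = true := by decide +kernel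

end Cfsg.Agent.CoxOut.He
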