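import Cfsg.Agent.Lib.Lead.CoxOut.HeChk1
import Cfsg.Agent.Lib.Lead.CoxOut.HeChk2
import Cfsg.Agent.Lib.Lead.CoxOut.HeChk3
import Cfsg.Agent.Lib.Lead.CoxOut.HeChk4
import Cfsg.Agent.Lib.Lead.CoxOut.HeChk5
import Cfsg.Agent.Lib.Lead.CoxOut.HeChk6

/-! # The outer automorphism group of the Held group: all kernel checks -/
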