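import Cfsg.Agent.Lib.Lead.CoxOut.HeChk
import Cfsg.Agent.Lib.Helper6.HeSimple
import Cfsg.Agent.Lib.Helper6.OutGeneric

/-!
# The outer automorphism group of the Held group has order two

The presented group acts faithfully on the 2058 rows of the coset table; the symmetry of the graph of the presentation
gives an automorphism that maps an element `x` of order 17 to an element that is not conjugate to `x`.
-/

set_option autoImplicit false
set_option maxRecDepth 100000
set_option linter.constructorNameAsVariable false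

namespace Cfsg.Agent.CoxOut.He

open Cfsg Cfsg.Spor Cfsg.Agent.PL Cfsg.Agent.PL.Cox Cfsg.Agent.Lib.Helper6 Cfsg.Agent.Lib.Helper6.TC

theorem n_le : HeTC.data.T.n ≤ 4096 := by
  show 2058 ≤ 4096
  norm_num

theorem ρ_ne_one : HeTC.data.cert.ρ (Simp.wordG HeTC.data [0]) ≠ 1 := by
  intro h1
  have h2 := SimpWPC.ρ_wordG_apply HeTC.data (w := [0]) (by show ∀ x ∈ [0], x < 7; decide) 18
    (by show 18 < 2058; norm_num)
  rw [h1] at h2
  have h3 : HeTC.tab.trace 18 [0] ≠ 18 := by decide +kernel
  exact h3 h2.symm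

/-- the action on the rows is faithful -/
theorem ρ_inj : Function.Injective HeTC.data.cert.ρ := by
  have : IsSimpleGroup He := HeSimple.main.1
  exact T3Gen.injective_of_simple _ ρ_ne_one

/-- the permutation group on the rows -/
noncomputable abbrev P : Subgroup (Equiv.Perm (Fin HeTC.data.T.n)) := Cox.P HeTC.data

theorem card_P : Nat.card ↥P = 4030387200 := Cox.card_P HeTC.data ρ_inj HeSimple.main.2

theorem regs_ok : RegsOK P (regs HeTC.data gl) cgs := Cox.regs_ok HeTC.data n_le gl cgs chk_cols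

theorem regs_ok' : RegsOK P (regs HeTC.data (gl.map swI)) cgs' :=
  Cox.regs_ok HeTC.data n_le (gl.map swI) cgs' chk_cols'

/-- the element `x` -/
noncomputable def xP : ↥P := outP progXYW (regs HeTC.data gl) ix
/-- the element `y` -/
noncomputable def yP : ↥P := outP progXYW (regs HeTC.data gl) iy
/-- the element `w` -/
noncomputable def wP : ↥P := outP progXYW (regs HeTC.data gl) iw

theorem enc_xP : enc HeTC.data.T.n xP.1 = cx := (enc_outP n_le regs_ok progXYW ix).trans (out_three chk_xyw).1
theorem enc_yP : enc HeTC.data.T.n yP.1 = cy := (enc_outP n_le regs_ok progXYW iy).trans (out_three chk_xyw).2.1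
theorem enc_wP : enc HeTC.data.T.n wP.1 = cw := (enc_outP n_le regs_ok progXYW iw).trans (out_three chk_xyw).2.2

theorem hR : ∀ k < 17, k ≠ 0 → ∃ j : ℕ, ∃ r ∈ ({1, 3} : Finset ℕ), (k * 9 ^ j) % 17 = r % 17 := by
  have h : ∀ k < 17, k ≠ 0 → ∃ j < 8, ∃ r ∈ ({1, 3} : Finset ℕ), (k * 9 ^ j) % 17 = r % 17 := by decide
  intro k hk hk0
  obtain ⟨j, -, r, hr, e⟩ := h k hk hk0
  exact ⟨j, r, hr, e⟩

theorem hsolve : ∀ i < 17, ∃ a : ℕ, (a + 9 * i) % 17 = (9 * a) % 17 := by
  have h : ∀ i < 17, ∃ a < 17, (a + 9 * i) % 17 = (9 * a) % 17 := by decide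
  intro i hi
  obtain ⟨a, -, e⟩ := h i hi
  exact ⟨a, e⟩

theorem hA : ∀ c ∈ codesA, ∃ g ∈ Subgroup.closure {xP.1, yP.1, wP.1}, enc HeTC.data.T.n g = c :=
  codes_of_run n_le (Subgroup.closure {xP.1, yP.1, wP.1}) (Subgroup.subset_closure (by simp))
    (Subgroup.subset_closure (by simp)) (Subgroup.subset_closure (by simp)) enc_xP enc_yP enc_wP progSGA idxSGA sgAList
    chk_sgA

theorem hB : ∀ c ∈ codesB, ∃ g ∈ P, enc HeTC.data.T.n g = c :=
  codes_of_run n_le P xP.2 yP.2 wP.2 enc_xP enc_yP enc_wP progSGB idxSGB sgBList chk_sgB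

/-- the certificate -/
noncomputable def setup : OutSetup HeTC.data.T.n P where
  hn := n_le
  N := 4030387200
  hN := card_P
  fuel := 12
  p := 17
  hp := by norm_num
  hp2 := by norm_num
  m := 9
  s := 3
  r₁ := 3
  hR := hR
  hsolve := hsolve
  x := xP.1
  y := yP.1
  w := wP.1
  hx := xP.2
  hy := yP.2
  hw := wP.2
  cx := cx
  cy := cy
  cw := cw
  cv := cv
  ex := enc_xP
  ey := enc_yP
  ew := enc_wP
  chk_cv := chk_cv
  q₀ := 0
  chk_x := chk_x
  chk_x1 := chk_x1
  chk_yx := chk_yx
  chk_wy := chk_wy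
  codesA := codesA
  hA := hA
  LA := LA
  LsA := LsA
  chk_gensA := chk_gensA
  chk_treeA := chk_treeA
  chk_countsA := chk_countsA
  chk_cycA := chk_cycA
  tests := tests
  chk_centX := chk_centX
  codesB := codesB
  hB := hB
  LB := LB
  LsB := LsB
  chk_gensB := chk_gensB
  chk_treeB := chk_treeB
  chk_countsB := chk_countsB
  chk_cycB := chk_cycB
  kills := kills
  chk_rels := chk_rels
  testsB := testsB
  chk_kill := chk_kill

/-- the symmetry of the graph -/
def sw : He.Gen → He.Gen
  | .a => .a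
  | .b => .b
  | .c => .c
  | .d => .d
  | .e => .e
  | .f => .g
  | .g => .f

theorem hswI : ∀ x < HeTC.data.T.g, HeTC.data.gen (swI x) = sw (HeTC.data.gen x) := by
  intro x hx
  have hx' : x < 7 := hx
  interval_cases x <;> rfl

theorem gl_lt : ∀ x ∈ gl, x < HeTC.data.T.g := by
  intro x hx
  show x < 7
  simp only [gl, List.mem_cons, List.not_mem_nil, or_false] at hx
  omega

/-- the outer automorphism group of the permutation group has order two -/
theorem card_out_P : Nat.card (Cfsg.Out ↥P) = 2 := by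
  obtain ⟨σ, hσ⟩ := exists_aut_P HeTC.data ρ_inj sw (by intro a; cases a <;> rfl)
    (fun a _ => HeTC.data.hnode _) (by intro a _ b _; cases a <;> cases b <;> rfl) swI hswI chk_sym
  refine setup.card_out_two σ _ rfl cx' ?_ chk_nonconj
  have h1 : σ setup.xP = outP progXYW (regs HeTC.data (gl.map swI)) ix :=
    map_out HeTC.data σ swI hσ gl gl_lt progXYW ix
  rw [h1, enc_outP n_le regs_ok' progXYW ix]
  exact chk_sx

/-- **The outer automorphism group of the Held group has order two.** -/
theorem card_out : Nat.card (Cfsg.Out He) = 2 := by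
  rw [OutGeneric.card_out_congr (iso HeTC.data ρ_inj)]
  exact card_out_P

end Cfsg.Agent.CoxOut.He
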