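import Cfsg.Agent.Lib.Lead.CoxOut.SuzData
import Cfsg.Agent.Lib.Lead.PL.CoxBridge
import Cfsg.Agent.Lib.Helper6.SuzTC

/-! # The outer automorphism group of the sporadic Suzuki group: kernel checks -/

set_option autoImplicit false
set_option maxRecDepth 100000

namespace Cfsg.Agent.CoxOut.Suz

open Cfsg.Agent.PL Cfsg.Agent.PL.Cox Cfsg.Agent.Lib.Helper6
open Cfsg.Agent.PG (allB)

theorem chk_cols : colsOK SuzTC.tab gl cgs = true := by decide +kernel

theorem chk_cols' : colsOK SuzTC.tab (gl.map swI) cgs' = true := by decide +kernel

theorem chk_sym : symOK SuzTC.tab swI SuzTC.extraWords = true := by decide +kernel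

theorem chk_xyw : runK 1782 progXYW cgs (fun r => [ix, iy, iw].map fun t => r.getD t (pone 1782)) = [cx, cy, cw] := by
  decide +kernel

theorem chk_sx : (run 1782 progXYW cgs').getD ix (pone 1782) = cx' := by decide +kernel

theorem chk_sgA : runK 1782 progSGA [cw, cy, cx] (fun r => idxSGA.map fun i => r.getD i (pone 1782)) = sgAList := by
  decide +kernel

theorem chk_sgB : runK 1782 progSGB [cw, cy, cx] (fun r => idxSGB.map fun i => r.getD i (pone 1782)) = sgBList := by
  decide +kernel

theorem chk_cv : pinv 1782 cw = cv := by decide +kernel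

theorem chk_x : (allB 1782 fun q => Nat.beq ((lk cx)^[13] q) q) = true := by decide +kernel

theorem chk_x1 : (Nat.blt 1 1782 && !Nat.beq (lk cx 1) 1) = true := by decide +kernel

theorem chk_yx : (allB 1782 fun q => Nat.beq (lk cy (lk cx q)) ((lk cx)^[4] (lk cy q))) = true := by decide +kernel

theorem chk_wy : (allB 1782 fun q => Nat.beq (lk cw (lk cy q)) ((lk cy)^[5] (lk cw q))) = true := by decide +kernel

theorem chk_gensA : ((LA :: LsA).all fun L => L.2.1.all fun c => codesA.contains c) = true := by decide +kernel

theorem chk_gensB : ((LB :: LsB).all fun L => L.2.1.all fun c => codesB.contains c) = true := by decide +kernel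

theorem chk_treeA : treeOK 1782 [] (LA :: LsA) = true := by decide +kernel

theorem chk_treeB : treeOK 1782 [] (LB :: LsB) = true := by decide +kernel

theorem chk_countsA : (treeCounts 1782 13 (LA :: LsA)).prod = 448345497600 := by decide +kernel

theorem chk_countsB : (treeCounts 1782 13 (LB :: LsB)).prod = 448345497600 := by decide +kernel

theorem chk_cycA : baseCycle cx (LA :: LsA) = true := by decide +kernel

theorem chk_cycB : baseCycle cy (LB :: LsB) = true := by decide +kernel

theorem chk_centX : (conjList 1782 13 cx cx tests (LA :: LsA)).length = 13 := by decide +kernel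

theorem chk_nonconj : conjList 1782 13 cx cx' tests (LA :: LsA) = [] := by decide +kernel

theorem chk_rels : relsOK 1782 (lk cx) (lk cy) (lk cv) kills = true := by decide +kernel

theorem chk_kill : killOK 1782 13 cx cy cv LB.1 testsB (LB :: LsB) kills = true := by decide +kernel

end Cfsg.Agent.CoxOut.Suz
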